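import Groth.Agent.Lib.VarDim.Alg
import Groth.Agent.Lib.RegSmooth17.Scheme
import Groth.Agent.S10862
import Mathlib

/-!
# Smooth curves through a rational point of a variety, meeting a given open
-/

set_option autoImplicit false
set_option linter.style.haveILetI false
set_option backward.isDefEq.respectTransparency.types false
universe u

open CategoryTheory AlgebraicGeometry

namespace Groth.Agent.GeomSmoothing3

/-- Below a maximal ideal there is a prime of colength one avoiding a given nonzero element. -/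
theorem exists_prime_dim_one (k : Type u) [Field k] (A : Type u) [CommRing A] [IsDomain A] [Algebra k A]
    [Algebra.FiniteType k A] (m : Ideal A) [m.IsMaximal] (g : A) (hg : g ≠ 0) (hgm : g ∈ m) :
    ∃ q : Ideal A, q.IsPrime ∧ q ≤ m ∧ g ∉ q ∧ ringKrullDim (A ⧸ q) = 1 := by
  classical
  haveI : IsNoetherianRing A := Algebra.FiniteType.isNoetherianRing k A
  obtain ⟨q, ⟨hq, hqm, hgq⟩, hmax⟩ := set_has_maximal_iff_noetherian.2 inferInstance
    {q : Ideal A | q.IsPrime ∧ q ≤ m ∧ g ∉ q} ⟨⊥, Ideal.isPrime_bot, bot_le, hg⟩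
  refine ⟨q, hq, hqm, hgq, ?_⟩
  haveI := hq
  let D := A ⧸ q
  let π := Ideal.Quotient.mk q
  haveI : Algebra.FiniteType k D :=
    Algebra.FiniteType.of_surjective (Ideal.Quotient.mkₐ k q) Ideal.Quotient.mk_surjective
  let M : Ideal D := m.map π
  haveI hM : M.IsMaximal :=
    Ideal.IsMaximal.map_of_surjective_of_ker_le Ideal.Quotient.mk_surjective (Ideal.mk_ker.trans_le hqm)
  have hg0 : π g ≠ 0 := fun h => hgq (Ideal.Quotient.eq_zero_iff_mem.1 h)
  have hgM : π g ∈ M := Ideal.mem_map_of_mem π hgm
  have key : ∀ P : Ideal D, P.IsPrime → P ≤ M → P ≠ ⊥ → π g ∈ P := by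
    intro P hP hPM hP0
    by_contra hgP
    haveI := hP
    have hle : q ≤ P.comap π := fun a ha => by
      show π a ∈ P
      rw [Ideal.Quotient.eq_zero_iff_mem.2 ha]; exact zero_mem _
    have hne : q < P.comap π := lt_of_le_of_ne hle fun h => hP0 (by
      rw [← Ideal.map_comap_of_surjective π Ideal.Quotient.mk_surjective P, ← h, Ideal.map_quotient_self])
    refine hmax _ ⟨Ideal.comap_isPrime _ _, ?_, hgP⟩ hne
    refine (Ideal.comap_mono hPM).trans (le_of_eq ?_)
    rw [Ideal.comap_map_of_surjective _ Ideal.Quotient.mk_surjective, sup_eq_left]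
    exact (Ideal.mk_ker (I := q)).le.trans hqm
  have hM1 : M.height = 1 := by
    refine le_antisymm ?_ (Order.one_le_iff_pos.2 (pos_iff_ne_zero.2 fun h0 => hg0 ?_))
    swap
    · have := Ideal.height_eq_zero_iff.1 h0
      rw [IsDomain.minimalPrimes_eq_singleton_bot] at this
      exact (Submodule.mem_bot D).1 (this.le hgM)
    by_contra hlt
    rw [not_le] at hlt
    have hfin := (Ideal.span {π g}).finite_minimalPrimes_of_isNoetherianRing D
    have hnot : ¬ ((M : Set D) ⊆ ⋃ P ∈ (Ideal.span {π g}).minimalPrimes, (P : Set D)) := by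
      rw [Ideal.subset_union_prime_finite hfin (f := fun P => P) ⊥ ⊥ fun P hP _ _ => hP.1.1]
      rintro ⟨P, hP, hMP⟩
      exact hlt.not_ge ((Ideal.height_mono hMP).trans (Ideal.height_le_one_of_isPrincipal_of_mem_minimalPrimes _ P hP))
    obtain ⟨a, haM, ha⟩ := Set.not_subset.1 hnot
    have ha0 : a ≠ 0 := by
      rintro rfl
      obtain ⟨P, hP, -⟩ := Ideal.exists_minimalPrimes_le ((Ideal.span_singleton_le_iff_mem M).2 hgM)
      exact ha (Set.mem_iUnion₂.2 ⟨P, hP, zero_mem P⟩)
    obtain ⟨P₁, hP₁, hP₁M⟩ := Ideal.exists_minimalPrimes_le ((Ideal.span_singleton_le_iff_mem M).2 haM)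
    haveI := hP₁.1.1
    have hP₁a : a ∈ P₁ := (Ideal.span_singleton_le_iff_mem _).1 hP₁.1.2
    have hP₁0 : P₁ ≠ ⊥ := fun h => ha0 ((Submodule.mem_bot D).1 (h ▸ hP₁a))
    have hgP₁ := key P₁ hP₁.1.1 hP₁M hP₁0
    obtain ⟨P, hP, hPP₁⟩ := Ideal.exists_minimalPrimes_le ((Ideal.span_singleton_le_iff_mem P₁).2 hgP₁)
    haveI := hP.1.1
    rcases hPP₁.eq_or_lt with h | h
    · exact ha (Set.mem_iUnion₂.2 ⟨P, hP, h ▸ hP₁a⟩)
    · have h1 := Ideal.height_le_one_of_isPrincipal_of_mem_minimalPrimes _ P₁ hP₁
      have h2 : P.height < 1 := (Ideal.height_strict_mono_of_isPrime h).trans_le h1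
      have h3 := Ideal.height_eq_zero_iff.1 (Order.lt_one_iff.1 h2)
      rw [IsDomain.minimalPrimes_eq_singleton_bot, Set.mem_singleton_iff] at h3
      exact hg0 ((Submodule.mem_bot D).1 (h3 ▸ (Ideal.span_singleton_le_iff_mem _).1 hP.1.2))
  let p : PrimeSpectrum D := ⟨M, hM.isPrime⟩
  have h := Groth.Agent.VarDim.height_add_coheight_nat k D p
  have hco : Order.coheight p = 0 := Order.coheight_eq_zero.2 fun r hr =>
    (PrimeSpectrum.ext (hM.eq_of_le r.isPrime.ne_top hr)).ge
  rw [hco, add_zero, ← PrimeSpectrum.height_eq_orderHeight p, hM1] at h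
  rw [Groth.Agent.VarDim.ringKrullDim_eq_tdeg k D]
  exact_mod_cast h.symm

/-- A smooth affine curve mapping to a variety, through a rational point and meeting `D(g)`. -/
theorem exists_curve (k : Type u) [Field k] [IsAlgClosed k] (A : Type u) [CommRing A] [IsDomain A] [Algebra k A]
    [Algebra.FiniteType k A] (χ : A →ₐ[k] k) (g : A) (hg : g ≠ 0) (hgχ : χ g = 0) :
    ∃ (B : Type u) (_ : CommRing B) (_ : IsDomain B) (_ : Algebra k B) (φ : A →ₐ[k] B) (ψ : B →ₐ[k] k),
      ψ.comp φ = χ ∧ φ g ≠ 0 ∧ ringKrullDim B = 1 ∧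
        Smooth (Spec.map (CommRingCat.ofHom (algebraMap k B))) := by
  let m : Ideal A := RingHom.ker χ.toRingHom
  haveI : m.IsMaximal := RingHom.ker_isMaximal_of_surjective χ.toRingHom
    fun c => ⟨algebraMap k A c, χ.commutes c⟩
  obtain ⟨q, hq, hqm, hgq, hdim⟩ := exists_prime_dim_one k A m g hg hgχ
  haveI := hq
  let D := A ⧸ q
  haveI : Algebra.FiniteType k D :=
    Algebra.FiniteType.of_surjective (Ideal.Quotient.mkₐ k q) Ideal.Quotient.mk_surjective
  haveI : IsNoetherianRing D := Algebra.FiniteType.isNoetherianRing k D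
  haveI : Ring.DimensionLEOne D := by
    haveI : Ring.KrullDimLE 1 D := Ring.krullDimLE_iff.2 hdim.le
    exact ⟨fun {I} hI hp => Ring.krullDimLE_one_iff_of_noZeroDivisors.1 inferInstance I hI hp⟩
  let K := FractionRing D
  let B := integralClosure D K
  haveI : Module.Finite D B := S10862.result k D K K
  haveI : IsNoetherianRing B := IsNoetherianRing.of_finite D B
  haveI : IsIntegrallyClosed B := integralClosure.isIntegrallyClosedOfFiniteExtension K
  haveI : Ring.DimensionLEOne B := Ring.DimensionLEOne.integralClosure D K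
  haveI : IsDedekindDomain B := { }
  let φ : A →ₐ[k] B := (IsScalarTower.toAlgHom k D B).comp (Ideal.Quotient.mkₐ k q)
  haveI : Algebra.FiniteType k B := Algebra.FiniteType.trans (S := D) inferInstance inferInstance
  have hinj : Function.Injective (algebraMap D B) := fun a b h => IsFractionRing.injective D K (congrArg Subtype.val h)
  have hdimB : ringKrullDim B = 1 := by
    have h1 : ¬ IsField B := fun hB => by
      have hD : IsField D := (Algebra.IsIntegral.isField_iff_isField hinj).2 hB
      rw [ringKrullDim_eq_zero_of_isField hD] at hdim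
      exact zero_ne_one hdim
    haveI h2 : Ring.KrullDimLE 1 B := Ring.krullDimLE_one_iff_of_noZeroDivisors.2 fun I hI hp => hp.isMaximal hI
    refine le_antisymm (Ring.krullDimLE_iff.1 h2) (not_lt.1 fun hlt => h1 ?_)
    have h0 : ringKrullDim B ≤ 0 := by
      revert hlt
      cases ringKrullDim B with
      | bot => simp
      | coe n => intro h; exact WithBot.coe_le_coe.2 (Order.lt_one_iff.1 (WithBot.coe_lt_coe.1 h)).le
    haveI : Ring.KrullDimLE 0 B := Ring.krullDimLE_iff.2 h0
    exact Ring.KrullDimLE.isField_of_isDomain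
  let mD : Ideal D := m.map (Ideal.Quotient.mk q)
  haveI : mD.IsMaximal :=
    Ideal.IsMaximal.map_of_surjective_of_ker_le Ideal.Quotient.mk_surjective (Ideal.mk_ker.trans_le hqm)
  obtain ⟨M, hMp, hM⟩ := Ideal.exists_maximal_ideal_liesOver_of_isIntegral (S := B) mD
  letI := Ideal.Quotient.field M
  haveI : Module.Finite k (B ⧸ M) := by
    haveI : Algebra.FiniteType k (B ⧸ M) :=
      Algebra.FiniteType.of_surjective (Ideal.Quotient.mkₐ k M) Ideal.Quotient.mk_surjective
    exact finite_of_finite_type_of_isJacobsonRing k (B ⧸ M)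
  let e : k ≃ₐ[k] (B ⧸ M) :=
    AlgEquiv.ofBijective (Algebra.ofId k (B ⧸ M)) IsAlgClosed.algebraMap_bijective_of_isIntegral
  let ψ : B →ₐ[k] k := e.symm.toAlgHom.comp (Ideal.Quotient.mkₐ k M)
  refine ⟨B, inferInstance, inferInstance, inferInstance, φ, ψ, ?_, ?_, hdimB, ?_⟩
  · ext a
    have ha : a - algebraMap k A (χ a) ∈ m := by
      show χ (a - algebraMap k A (χ a)) = 0
      rw [map_sub, χ.commutes]; exact sub_self _
    have h1 : φ (a - algebraMap k A (χ a)) ∈ M := by
      have hmem : Ideal.Quotient.mk q (a - algebraMap k A (χ a)) ∈ M.under D := by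
        rw [← hM.over]; exact Ideal.mem_map_of_mem _ ha
      exact hmem
    have h2 : (ψ.comp φ) (a - algebraMap k A (χ a)) = 0 := by
      show e.symm (Ideal.Quotient.mk M _) = 0
      erw [Ideal.Quotient.eq_zero_iff_mem.2 h1, map_zero]
    rw [map_sub, AlgHom.commutes, sub_eq_zero] at h2
    simpa using h2
  · intro h
    have h1 : algebraMap D B (Ideal.Quotient.mk q g) = algebraMap D B 0 := by rw [map_zero]; exact h
    exact hgq (Ideal.Quotient.eq_zero_iff_mem.1 (hinj h1))
  · haveI : LocallyOfFiniteType (Spec.map (CommRingCat.ofHom (algebraMap k B))) :=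
      (HasRingHomProperty.Spec_iff (P := @LocallyOfFiniteType)).2 (RingHom.finiteType_algebraMap.2 inferInstance)
    haveI : LocallyOfFinitePresentation (Spec.map (CommRingCat.ofHom (algebraMap k B))) :=
      (HasRingHomProperty.Spec_iff (P := @LocallyOfFinitePresentation)).2
        (RingHom.finitePresentation_algebraMap.2 (Algebra.FinitePresentation.of_finiteType.1 inferInstance))
    refine RegSmooth17.smooth_of_regular_of_perfectField _ fun x => ?_
    letI : Algebra B ((Spec (CommRingCat.of B)).presheaf.stalk x) := StructureSheaf.stalkAlgebra (R := B) x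
    haveI : IsLocalization.AtPrime ((Spec (CommRingCat.of B)).presheaf.stalk x) x.asIdeal :=
      StructureSheaf.IsLocalization.to_stalk B x
    haveI : IsRegularLocalRing (Localization.AtPrime x.asIdeal) := IsRegularRing.isRegularLocalRing_localization _
    exact IsRegularLocalRing.of_ringEquiv (R := Localization.AtPrime x.asIdeal)
      (IsLocalization.algEquiv x.asIdeal.primeCompl (Localization.AtPrime x.asIdeal)
        ((Spec (CommRingCat.of B)).presheaf.stalk x)).toRingEquiv

end Groth.Agent.GeomSmoothing3
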