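import Groth.Agent.Lib.Descend.FgModel
import Groth.Agent.Lib.Descend19.Flat
import Groth.Agent.S2074

/-!
# Proper flat models over finitely generated subrings
-/

set_option autoImplicit false
set_option linter.style.haveILetI false
set_option backward.isDefEq.respectTransparency false
set_option backward.isDefEq.respectTransparency.types false
set_option backward.defeqAttrib.useBackward true
universe u

open CategoryTheory CategoryTheory.Limits AlgebraicGeometry Opposite

namespace Groth.Agent.GeomSmoothing3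

theorem exists_proper_flat_model {A : Type u} [CommRing A] {X : Scheme.{u}} (f : X ⟶ Spec (CommRingCat.of A))
    [IsProper f] [Flat f] [LocallyOfFinitePresentation f] :
    ∃ A₀ : Subalgebra ℤ A, A₀.FG ∧ ∃ (X₀ : Scheme.{u}) (f₀ : X₀ ⟶ Spec (CommRingCat.of ↥A₀)) (g : X ⟶ X₀),
      Flat f₀ ∧ IsProper f₀ ∧ LocallyOfFinitePresentation f₀ ∧
        IsPullback g f f₀ (Spec.map (CommRingCat.ofHom (algebraMap (↥A₀) A))) := by
  obtain ⟨A₀, hA₀, X₀, f₀, g, hfl, hfp, hqc, hg⟩ := Descend.exists_fg_model @Flat @Flat f inferInstance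
    (fun hc => fun hq hP hg => by
      haveI := hg
      exact Descend19.exists_flat hc hq hP)
  haveI := hqc
  haveI := hfp
  let D := (Descend.fgRing A).op ⋙ Scheme.Spec
  let c : Cone D := Scheme.Spec.mapCone (Descend.fgCocone A).op
  have hc : IsLimit c := isLimitOfPreserves Scheme.Spec (Descend.isColimitFgCocone A).op
  haveI : ∀ i, IsAffine (D.obj i) := fun i => inferInstanceAs (IsAffine (Spec _))
  haveI : ∀ (i j) (a : i ⟶ j), IsAffineHom (D.map a) := fun i j a => inferInstance
  haveI : IsCofiltered (Descend.FgIdx A)ᵒᵖ := by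
    haveI : IsFiltered (Descend.FgIdx A) := isFiltered_of_directed_le_nonempty _
    infer_instance
  let i₀ : (Descend.FgIdx A)ᵒᵖ := op ⟨A₀, hA₀⟩
  haveI : CompactSpace X₀ := QuasiCompact.compactSpace_of_compactSpace f₀
  obtain ⟨j, a, Xi, Yi, fi, gi, pY, pX, hY', hX', hP⟩ := by
    haveI : QuasiSeparatedSpace X₀ := by
      haveI : IsLocallyNoetherian (Spec (CommRingCat.of ↥A₀)) := by
        haveI : Algebra.FiniteType ℤ A₀ := (Subalgebra.fg_iff_finiteType A₀).1 hA₀
        haveI : IsNoetherianRing A₀ := Algebra.FiniteType.isNoetherianRing ℤ A₀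
        infer_instance
      haveI := LocallyOfFiniteType.isLocallyNoetherian f₀
      infer_instance
    exact S2074.result D c hc i₀ (X₀ := X₀) (Y₀ := Spec (CommRingCat.of ↥A₀)) f₀
      (𝟙 (Spec (CommRingCat.of ↥A₀))) f (𝟙 c.pt) (c.π.app i₀) g
      (IsPullback.id_horiz (c.π.app i₀)).flip hg
  haveI : IsIso gi := hY'.isIso_snd_of_isIso
  have hpY : pY = gi ≫ D.map a := by simpa using hY'.w
  have hsq : IsPullback pX (fi ≫ gi) f₀ (D.map a) := by
    refine IsPullback.of_iso hX' (Iso.refl _) (Iso.refl _) (asIso gi) (Iso.refl _) (by simp) ?_ (by simp) ?_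
    · simp
    · simp [hpY]
  haveI := hP
  haveI := hfl
  refine ⟨j.unop.1, j.unop.2, Xi, fi ≫ gi, hsq.lift g (f ≫ c.π.app j) ?_, MorphismProperty.of_isPullback hsq inferInstance,
    inferInstance, MorphismProperty.of_isPullback hsq inferInstance, ?_⟩
  · rw [Category.assoc, c.w]; exact hg.w
  · refine IsPullback.of_right ?_ (hsq.lift_snd _ _ _) hsq
    rw [hsq.lift_fst]
    show IsPullback g f f₀ (c.π.app j ≫ D.map a)
    rw [c.w]
    exact hg

end Groth.Agent.GeomSmoothing3
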